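import Groth.Agent.S18436
import Mathlib

set_option autoImplicit false
universe u

open SpinCurv Groth.Agent.S18436

namespace Groth.Agent.SpinNode

variable {R : Type u} [CommRing R]

theorem smul_eq {π : R} (r : R) (z : PolyNodeRing R π) :
    r • z = algebraMap R (PolyNodeRing R π) r * z :=
  Algebra.smul_def (R := R) (A := PolyNodeRing R π) r z

theorem bas_natCast (q : R) (k : ℕ) : bas q (k : ℤ) = PolyNodeRing.x R q ^ k := by
  simp [bas]

theorem bas_neg (q : R) (k : ℕ) : bas q (-(k : ℤ)) = PolyNodeRing.y R q ^ k := by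
  rcases Nat.eq_zero_or_pos k with rfl | h
  · simp [bas]
  · rw [bas, if_neg (by omega)]; simp

set_option maxHeartbeats 1600000 in
theorem main (p q : R)
    (rU : PolyNodeRing R (p * q) →ₐ[R] PolyNodeRing R q)
    (hrUx : rU (PolyNodeRing.x R (p * q)) = algebraMap R _ p * PolyNodeRing.x R q)
    (hrUy : rU (PolyNodeRing.y R (p * q)) = PolyNodeRing.y R q)
    (rV : PolyNodeRing R (p * q) →ₐ[R] PolyNodeRing R p)
    (hrVx : rV (PolyNodeRing.x R (p * q)) = PolyNodeRing.y R p)
    (hrVy : rV (PolyNodeRing.y R (p * q)) = algebraMap R _ q * PolyNodeRing.x R p)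
    (gU : PolyNodeRing R q →ₐ[R] LaurentPolynomial R)
    (hgUs : gU (PolyNodeRing.x R q) = LaurentPolynomial.T 1)
    (hgUy : gU (PolyNodeRing.y R q) = LaurentPolynomial.C q * LaurentPolynomial.T (-1))
    (gV : PolyNodeRing R p →ₐ[R] LaurentPolynomial R)
    (hgVt : gV (PolyNodeRing.x R p) = LaurentPolynomial.T (-1))
    (hgVx : gV (PolyNodeRing.y R p) = LaurentPolynomial.C p * LaurentPolynomial.T 1) (N : ℕ) :
    Set.range (fun F : Fin (N + 1) → PolyNodeRing R (p * q) =>
        (∑ i : Fin (N + 1), rU (F i) * PolyNodeRing.x R q ^ (N - (i : ℕ)),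
         ∑ i : Fin (N + 1), rV (F i) * PolyNodeRing.x R p ^ (i : ℕ))) =
      {gf : PolyNodeRing R q × PolyNodeRing R p |
        gU gf.1 = LaurentPolynomial.T (N : ℤ) * gV gf.2} ∧
    {F : Fin (N + 1) → PolyNodeRing R (p * q) |
        (∑ i : Fin (N + 1), rU (F i) * PolyNodeRing.x R q ^ (N - (i : ℕ)),
         ∑ i : Fin (N + 1), rV (F i) * PolyNodeRing.x R p ^ (i : ℕ)) = 0} =
      (Submodule.span (PolyNodeRing R (p * q))
        (Set.range (fun i : Fin N =>
            (Pi.single (Fin.castSucc i) (algebraMap R (PolyNodeRing R (p * q)) p) -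
              Pi.single (Fin.succ i) (PolyNodeRing.x R (p * q)) : Fin (N + 1) → PolyNodeRing R (p * q))) ∪
         Set.range (fun i : Fin N =>
            (Pi.single (Fin.castSucc i) (PolyNodeRing.y R (p * q)) -
              Pi.single (Fin.succ i) (algebraMap R (PolyNodeRing R (p * q)) q) : Fin (N + 1) → PolyNodeRing R (p * q)))) :
        Set (Fin (N + 1) → PolyNodeRing R (p * q))) := by
  classical
  let φ := gU.toLinearMap.comp (LinearMap.fst R (SpinCurv.PolyNodeRing R q) (SpinCurv.PolyNodeRing R p)) -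
    (LinearMap.mulLeft R (LaurentPolynomial.T (N : ℤ))).comp
      (gV.toLinearMap.comp (LinearMap.snd R (SpinCurv.PolyNodeRing R q) (SpinCurv.PolyNodeRing R p)))
  let n : ℤ := N
  have hn : -1 ≤ n := by omega
  let α : ℤ → R := fun m => q ^ (-m).toNat
  let β : ℤ → R := fun m => p ^ (m - n).toNat
  have hTp : ∀ (a : ℤ) (j : ℕ), (LaurentPolynomial.T a : LaurentPolynomial R) ^ j = LaurentPolynomial.T (j * a) :=
    fun a j => LaurentPolynomial.T_pow a j
  have hU : ∀ m, gU (bas q m) = AddMonoidAlgebra.single m (α m) := by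
    intro m
    rw [LaurentPolynomial.single_eq_C_mul_T, bas]
    split_ifs with h
    · rw [map_pow, hgUs, hTp]
      have : (-m).toNat = 0 := by omega
      simp [α, h, this]
    · rw [map_pow, hgUy, mul_pow, hTp, ← map_pow]
      congr 2
      omega
  have hV : ∀ l, LaurentPolynomial.T n * gV (bas p l) = AddMonoidAlgebra.single (n - l) (β (n - l)) := by
    intro l
    rw [LaurentPolynomial.single_eq_C_mul_T, bas]
    split_ifs with h
    · rw [map_pow, hgVt, hTp, ← LaurentPolynomial.T_add]
      have : (n - l - n).toNat = 0 := by omega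
      simp only [β, this, pow_zero, map_one, one_mul]
      congr 1
      omega
    · rw [map_pow, hgVx, mul_pow, hTp, ← map_pow, mul_left_comm, ← LaurentPolynomial.T_add]
      congr 2
      · simp only [β]; congr 2; omega
      · omega
  have hcU : ∀ (z : SpinCurv.PolyNodeRing R q) (m : ℤ), (gU z).coeff m = α m * coord q z m := by
    intro z m
    conv_lhs => rw [← comb_coord q z, comb, Finsupp.linearCombination_apply, map_finsuppSum]
    simp only [map_smul, hU, AddMonoidAlgebra.smul_single', AddMonoidAlgebra.coeff_finsuppSum, AddMonoidAlgebra.coeff_single]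
    rw [Finsupp.sum_apply]
    simp only [Finsupp.single_apply]
    rw [Finsupp.sum_ite_eq']
    split_ifs with h
    · rw [mul_comm]
    · rw [Finsupp.notMem_support_iff.1 h, mul_zero]
  have hcV : ∀ (z : SpinCurv.PolyNodeRing R p) (m : ℤ), (LaurentPolynomial.T n * gV z).coeff m = β m * coord p z (n - m) := by
    intro z m
    conv_lhs => rw [← comb_coord p z, comb, Finsupp.linearCombination_apply, map_finsuppSum, Finsupp.mul_sum]
    simp only [map_smul, mul_smul_comm, hV, AddMonoidAlgebra.smul_single', AddMonoidAlgebra.coeff_finsuppSum, AddMonoidAlgebra.coeff_single]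
    rw [Finsupp.sum_apply]
    simp only [Finsupp.single_apply]
    have hc : ∀ l, (n - l = m) ↔ (l = n - m) := fun l => by omega
    simp only [hc]
    rw [Finsupp.sum_ite_eq']
    split_ifs with h
    · rw [mul_comm, show n - (n - m) = m by omega]
    · rw [Finsupp.notMem_support_iff.1 h, mul_zero]
  have hker : ∀ z, z ∈ LinearMap.ker φ ↔ ∀ m, α m * coord q z.1 m = β m * coord p z.2 (n - m) := by
    intro z
    rw [LinearMap.mem_ker]
    constructor
    · intro hz m
      rw [← hcU, ← hcV]
      have : gU z.1 = LaurentPolynomial.T n * gV z.2 := sub_eq_zero.1 hz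
      rw [this]
    · intro hz
      refine sub_eq_zero.2 (AddMonoidAlgebra.coeff_injective (Finsupp.ext fun m => ?_))
      show (gU z.1).coeff m = (LaurentPolynomial.T n * gV z.2).coeff m
      rw [hcU, hcV, hz]
  let v : ℤ → SpinCurv.PolyNodeRing R q × SpinCurv.PolyNodeRing R p := fun m =>
    if 0 ≤ m then (β m • bas q m, bas p (n - m)) else (bas q m, α m • bas p (n - m))
  let T : (ℤ →₀ R) →ₗ[R] SpinCurv.PolyNodeRing R q × SpinCurv.PolyNodeRing R p := Finsupp.linearCombination R v
  have hT1 : ∀ (t : ℤ →₀ R) (m : ℤ), coord q (T t).1 m = (if 0 ≤ m then β m else 1) * t m := by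
    intro t m
    induction t using Finsupp.induction_linear with
    | zero => simp
    | add a b ha hb => simp [map_add, ha, hb, mul_add]
    | single j r =>
      simp only [T, Finsupp.linearCombination_single, v]
      split_ifs <;> simp [coord_bas, Finsupp.single_apply] <;> split_ifs <;> simp_all <;> first | ring | omega
  have hT2 : ∀ (t : ℤ →₀ R) (m : ℤ), coord p (T t).2 (n - m) = (if 0 ≤ m then 1 else α m) * t m := by
    intro t m
    induction t using Finsupp.induction_linear with
    | zero => simp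
    | add a b ha hb => simp [map_add, ha, hb, mul_add]
    | single j r =>
      simp only [T, Finsupp.linearCombination_single, v]
      split_ifs <;> simp [coord_bas, Finsupp.single_apply] <;> split_ifs <;> simp_all <;> first | ring | omega
  have hmem : ∀ t, T t ∈ LinearMap.ker φ := fun t => (hker _).2 fun m => by
    rw [hT1, hT2]
    split_ifs with h
    · have : (-m).toNat = 0 := by omega
      simp [α, this]
    · have : (m - n).toNat = 0 := by omega
      simp [β, this]
  let ψ : SpinCurv.PolyNodeRing R q × SpinCurv.PolyNodeRing R p →ₗ[R] (ℤ →₀ R) :=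
    (Finsupp.linearCombination R (fun m => if 0 ≤ m then 0 else Finsupp.single m 1)).comp ((coord q).comp (LinearMap.fst R _ _)) +
      (Finsupp.linearCombination R (fun l => if 0 ≤ n - l then Finsupp.single (n - l) 1 else 0)).comp ((coord p).comp (LinearMap.snd R _ _))
  have hψ : ∀ z m, ψ z m = if 0 ≤ m then coord p z.2 (n - m) else coord q z.1 m := by
    intro z m
    have h1 : ∀ A : ℤ →₀ R, Finsupp.linearCombination R (fun m : ℤ => if 0 ≤ m then 0 else Finsupp.single m (1 : R)) A m =
        if 0 ≤ m then 0 else A m := by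
      intro A
      induction A using Finsupp.induction_linear with
      | zero => simp
      | add a b ha hb => rw [map_add, Finsupp.add_apply, ha, hb]; split_ifs <;> simp
      | single j r => simp only [Finsupp.linearCombination_single]; split_ifs <;> simp [Finsupp.single_apply] <;> omega
    have h2 : ∀ A : ℤ →₀ R, Finsupp.linearCombination R (fun l : ℤ => if 0 ≤ n - l then Finsupp.single (n - l) (1 : R) else 0) A m =
        if 0 ≤ m then A (n - m) else 0 := by
      intro A
      induction A using Finsupp.induction_linear with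
      | zero => simp
      | add a b ha hb => rw [map_add, Finsupp.add_apply, ha, hb]; split_ifs <;> simp
      | single j r =>
        simp only [Finsupp.linearCombination_single]
        split_ifs <;> simp [Finsupp.single_apply] <;> (first | omega | (split_ifs <;> first | rfl | omega))
    simp only [ψ, LinearMap.add_apply, LinearMap.comp_apply, Finsupp.add_apply, LinearMap.fst_apply, LinearMap.snd_apply, h1, h2]
    split_ifs <;> simp
  have hfix : ∀ z : PolyNodeRing R q × PolyNodeRing R p, z ∈ LinearMap.ker φ → T (ψ z) = z := by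
    intro z hz0
    have hz := (hker z).1 hz0
    refine Prod.ext ?_ ?_
    · rw [← comb_coord q (T (ψ z)).1, ← comb_coord q z.1]
      congr 1
      ext m
      rw [hT1, hψ]
      split_ifs with h
      · rw [← hz m, show α m = 1 by simp [α, show (-m).toNat = 0 by omega], one_mul]
      · rw [one_mul]
    · rw [← comb_coord p (T (ψ z)).2, ← comb_coord p z.2]
      congr 1
      ext l
      obtain ⟨m, rfl⟩ : ∃ m, n - m = l := ⟨n - l, by omega⟩
      rw [hT2, hψ]
      split_ifs with h
      · rw [one_mul]
      · rw [hz m, show β m = 1 by simp only [β, show (m - n).toNat = 0 by omega, pow_zero], one_mul]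
  have hψT : ∀ t, T t = 0 → t = 0 := fun t ht => Finsupp.ext fun m => by
    have h1 := hT1 t m
    have h2 := hT2 t m
    rw [ht] at h1 h2
    simp only [Prod.fst_zero, Prod.snd_zero, map_zero, Finsupp.zero_apply] at h1 h2
    split_ifs at h1 h2 with h
    · simpa using h2.symm
    · simpa using h1.symm
  -- the map from the free module
  let ΦU : (Fin (N + 1) → PolyNodeRing R (p * q)) →ₗ[R] PolyNodeRing R q :=
    ∑ i : Fin (N + 1), (LinearMap.mulRight R (PolyNodeRing.x R q ^ (N - (i : ℕ)))).comp
      (rU.toLinearMap.comp (LinearMap.proj i))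
  let ΦV : (Fin (N + 1) → PolyNodeRing R (p * q)) →ₗ[R] PolyNodeRing R p :=
    ∑ i : Fin (N + 1), (LinearMap.mulRight R (PolyNodeRing.x R p ^ (i : ℕ))).comp
      (rV.toLinearMap.comp (LinearMap.proj i))
  let Φ := ΦU.prod ΦV
  have hΦ : ∀ F, Φ F = (∑ i : Fin (N + 1), rU (F i) * PolyNodeRing.x R q ^ (N - (i : ℕ)),
      ∑ i : Fin (N + 1), rV (F i) * PolyNodeRing.x R p ^ (i : ℕ)) := fun F => by
    simp [Φ, ΦU, ΦV]
  have hΦs : ∀ (i : Fin (N + 1)) (a : PolyNodeRing R (p * q)), Φ (Pi.single i a) =
      (rU a * PolyNodeRing.x R q ^ (N - (i : ℕ)), rV a * PolyNodeRing.x R p ^ (i : ℕ)) := fun i a => by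
    rw [hΦ, Prod.mk.injEq]
    constructor <;>
      (rw [Finset.sum_eq_single i (fun j _ hj => by simp [Pi.single_eq_of_ne hj])
        (fun h => absurd (Finset.mem_univ i) h), Pi.single_eq_same])
  let last : Fin (N + 1) := Fin.last N
  let gen : ℤ → (Fin (N + 1) → PolyNodeRing R (p * q)) := fun m =>
    if (N : ℤ) ≤ m then Pi.single 0 (PolyNodeRing.x R (p * q) ^ (m - N).toNat)
    else if 0 ≤ m then Pi.single (⟨(N - m).toNat % (N + 1), Nat.mod_lt _ (by omega)⟩ : Fin (N + 1)) 1
    else Pi.single last (PolyNodeRing.y R (p * q) ^ (-m).toNat)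
  have hgenx : ∀ a : ℕ, gen ((N : ℤ) + a) = Pi.single 0 (PolyNodeRing.x R (p * q) ^ a) := fun a => by
    simp only [gen]
    rw [if_pos (by omega)]
    simp
  have hgen1 : ∀ i : Fin (N + 1), gen ((N : ℤ) - (i : ℕ)) = Pi.single i 1 := fun i => by
    simp only [gen]
    by_cases h : (i : ℕ) = 0
    · rw [if_pos (by omega), show i = 0 from Fin.ext h]; simp
    · rw [if_neg (by omega), if_pos (by omega)]
      congr 1
      ext
      simp [Nat.mod_eq_of_lt i.2]
  have hgeny : ∀ b : ℕ, gen (-(b + 1 : ℕ) : ℤ) = Pi.single last (PolyNodeRing.y R (p * q) ^ (b + 1)) := fun b => by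
    simp only [gen]
    rw [if_neg (by omega), if_neg (by omega)]
    congr 2
  have hΦgen : ∀ m, Φ (gen m) = v m := by
    intro m
    simp only [gen, v]
    rcases lt_or_ge m 0 with h | h
    · rw [if_neg (by omega), if_neg (by omega), if_neg (by omega), hΦs]
      obtain ⟨b, rfl⟩ : ∃ b : ℕ, m = -(b : ℤ) := ⟨(-m).toNat, by omega⟩
      have e : n - -(b : ℤ) = ((N + b : ℕ) : ℤ) := by omega
      rw [e, bas_natCast, bas_neg]
      simp [last, α, hrUy, hrVy, map_pow, mul_pow, smul_eq, pow_add, mul_assoc]
      ring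
    · rw [if_pos h]
      rcases le_or_gt (N : ℤ) m with h' | h'
      · rw [if_pos h', hΦs]
        obtain ⟨a, rfl⟩ : ∃ a : ℕ, m = ((a + N : ℕ) : ℤ) := ⟨(m - N).toNat, by omega⟩
        have e : n - ((a + N : ℕ) : ℤ) = -(a : ℤ) := by omega
        have e2 : (((a + N : ℕ) : ℤ) - (N : ℤ)).toNat = a := by omega
        rw [if_pos (by omega), e, bas_natCast, bas_neg, show β ((a + N : ℕ) : ℤ) = p ^ a by simp only [β, n, e2], e2]
        simp [hrUx, hrVx, mul_pow, smul_eq, pow_add, mul_assoc]
      · rw [if_neg (by omega), if_pos h, hΦs]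
        obtain ⟨a, rfl⟩ : ∃ a : ℕ, m = (a : ℤ) := ⟨m.toNat, by omega⟩
        have e : n - (a : ℤ) = ((N - a : ℕ) : ℤ) := by omega
        rw [e, bas_natCast, bas_natCast]
        have e2 : ((N : ℤ) - (a : ℤ)).toNat % (N + 1) = N - a := by
          rw [Nat.mod_eq_of_lt (by omega)]; omega
        have e3 : β (a : ℤ) = 1 := by
          simp only [β, show ((a : ℤ) - n).toNat = 0 by omega, pow_zero]
        simp only [e2, e3, map_one, one_mul, one_smul, Int.toNat_natCast,
          Nat.mod_eq_of_lt (show N - a < N + 1 by omega), show N - (N - a) = a by omega]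
  let L : (ℤ →₀ R) →ₗ[R] (Fin (N + 1) → PolyNodeRing R (p * q)) := Finsupp.linearCombination R gen
  have hL : ∀ t, Φ (L t) = T t := by
    have : Φ.comp L = T := Finsupp.lhom_ext' fun m => LinearMap.ext_ring (by simp [L, T, hΦgen])
    exact fun t => LinearMap.congr_fun this t
  -- gluing
  have hglue : gU.comp rU = gV.comp rV := by
    refine Ideal.Quotient.algHom_ext R (MvPolynomial.algHom_ext fun i => ?_)
    fin_cases i
    · show gU (rU (PolyNodeRing.x R (p * q))) = gV (rV (PolyNodeRing.x R (p * q)))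
      rw [hrUx, hrVx, map_mul, AlgHom.commutes, hgUs, hgVx]
      rfl
    · show gU (rU (PolyNodeRing.y R (p * q))) = gV (rV (PolyNodeRing.y R (p * q)))
      rw [hrUy, hrVy, map_mul, AlgHom.commutes, hgUy, hgVt]
      rfl
  refine ⟨Set.ext fun gf => ⟨?_, fun hgf => ?_⟩, ?_⟩
  · rintro ⟨F, rfl⟩
    simp only [Set.mem_setOf_eq, map_sum, map_mul, map_pow, hgUs, hgVt, Finset.mul_sum]
    refine Finset.sum_congr rfl fun i _ => ?_
    rw [show gU (rU (F i)) = gV (rV (F i)) from AlgHom.congr_fun hglue (F i), hTp, hTp,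
      mul_left_comm, ← LaurentPolynomial.T_add]
    congr 2
    have := i.2
    push_cast [Nat.cast_sub (show (i : ℕ) ≤ N by omega)]
    ring
  · refine ⟨L (ψ gf), ?_⟩
    refine (hΦ _).symm.trans ?_
    rw [hL, hfix gf]
    exact LinearMap.mem_ker.2 (sub_eq_zero.2 hgf)
  let K := Submodule.span (PolyNodeRing R (p * q))
        (Set.range (fun i : Fin N =>
            (Pi.single (Fin.castSucc i) (algebraMap R (PolyNodeRing R (p * q)) p) -
              Pi.single (Fin.succ i) (PolyNodeRing.x R (p * q)) : Fin (N + 1) → (PolyNodeRing R (p * q)))) ∪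
         Set.range (fun i : Fin N =>
            (Pi.single (Fin.castSucc i) (PolyNodeRing.y R (p * q)) -
              Pi.single (Fin.succ i) (algebraMap R (PolyNodeRing R (p * q)) q) : Fin (N + 1) → (PolyNodeRing R (p * q)))))
  have hKer : ∀ F ∈ K, Φ F = 0 := by
    intro F hF
    induction hF using Submodule.span_induction with
    | mem w hw =>
      rcases hw with ⟨i, rfl⟩ | ⟨i, rfl⟩
      · rw [map_sub, hΦs, hΦs, AlgHom.commutes, AlgHom.commutes, hrUx, hrVx, Prod.mk_sub_mk, Prod.mk_eq_zero]
        refine ⟨?_, ?_⟩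
        · rw [show N - (i.castSucc : ℕ) = (N - (i.succ : ℕ)) + 1 by simp; omega, pow_succ]
          ring
        · rw [Fin.val_succ, Fin.val_castSucc, pow_succ, ← xy_eq]
          ring
      · rw [map_sub, hΦs, hΦs, AlgHom.commutes, AlgHom.commutes, hrUy, hrVy, Prod.mk_sub_mk, Prod.mk_eq_zero]
        refine ⟨?_, ?_⟩
        · rw [show N - (i.castSucc : ℕ) = (N - (i.succ : ℕ)) + 1 by simp; omega, pow_succ, ← xy_eq]
          ring
        · rw [Fin.val_succ, Fin.val_castSucc, pow_succ]
          ring
    | zero => simp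
    | add a b _ _ ha hb => rw [map_add, ha, hb, add_zero]
    | smul c w _ hw =>
      rw [hΦ, Prod.mk_eq_zero] at hw ⊢
      simp only [Pi.smul_apply, smul_eq_mul, map_mul, mul_assoc, ← Finset.mul_sum]
      rw [hw.1, hw.2, mul_zero, mul_zero]
      exact ⟨rfl, rfl⟩
  let W : Submodule R (Fin (N + 1) → (PolyNodeRing R (p * q))) := K.restrictScalars R ⊔ LinearMap.range L
  have hgenW : ∀ m, gen m ∈ W := fun m =>
    Submodule.mem_sup_right ⟨Finsupp.single m 1, by simp [L]⟩
  have hrel : ∀ (c : (PolyNodeRing R (p * q))) (j : Fin N),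
      c • (Pi.single j.castSucc (algebraMap R (PolyNodeRing R (p * q)) p) - Pi.single j.succ (PolyNodeRing.x R (p * q)) : Fin (N + 1) → (PolyNodeRing R (p * q))) ∈ W ∧
      c • (Pi.single j.castSucc (PolyNodeRing.y R (p * q)) - Pi.single j.succ (algebraMap R (PolyNodeRing R (p * q)) q) : Fin (N + 1) → (PolyNodeRing R (p * q))) ∈ W :=
    fun c j => ⟨Submodule.mem_sup_left (K.smul_mem c (Submodule.subset_span (Or.inl ⟨j, rfl⟩))),
      Submodule.mem_sup_left (K.smul_mem c (Submodule.subset_span (Or.inr ⟨j, rfl⟩)))⟩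
  have hx : ∀ (i : Fin (N + 1)) (a : ℕ), (Pi.single i (PolyNodeRing.x R (p * q) ^ a) : Fin (N + 1) → (PolyNodeRing R (p * q))) ∈ W := by
    intro i
    induction i using Fin.induction with
    | zero => exact fun a => hgenx a ▸ hgenW _
    | succ j ih =>
      intro a
      rcases a with _ | a
      · rw [pow_zero, ← hgen1]; exact hgenW _
      · have h1 := W.sub_mem (W.smul_mem p (ih a)) (hrel (PolyNodeRing.x R (p * q) ^ a) j).1
        convert h1 using 1
        rw [smul_sub, ← Pi.single_smul, ← Pi.single_smul, ← Pi.single_smul, smul_eq_mul, smul_eq_mul,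
          ← pow_succ, smul_eq, mul_comm (algebraMap R (PolyNodeRing R (p * q)) p), sub_sub_cancel]
  have hy : ∀ (i : Fin (N + 1)) (b : ℕ), (Pi.single i (PolyNodeRing.y R (p * q) ^ (b + 1)) : Fin (N + 1) → (PolyNodeRing R (p * q))) ∈ W := by
    intro i
    induction i using Fin.reverseInduction with
    | last => exact fun b => hgeny b ▸ hgenW _
    | cast j ih =>
      intro b
      have hq' : (Pi.single j.succ (PolyNodeRing.y R (p * q) ^ b) : Fin (N + 1) → (PolyNodeRing R (p * q))) ∈ W := by
        rcases b with _ | b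
        · simpa using hx j.succ 0
        · exact ih b
      have h1 := W.add_mem (hrel (PolyNodeRing.y R (p * q) ^ b) j).2 (W.smul_mem q hq')
      convert h1 using 1
      rw [smul_sub, ← Pi.single_smul, ← Pi.single_smul, ← Pi.single_smul, smul_eq_mul, smul_eq_mul,
        ← pow_succ, smul_eq, mul_comm (algebraMap R (PolyNodeRing R (p * q)) q), sub_add_cancel]
  have htop : ∀ F, F ∈ W := by
    have hs : ∀ (i : Fin (N + 1)) (c : (PolyNodeRing R (p * q))), (Pi.single i c : Fin (N + 1) → (PolyNodeRing R (p * q))) ∈ W := by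
      intro i c
      rw [← comb_coord (p * q) c, comb, Finsupp.linearCombination_apply, Finsupp.sum]
      change (LinearMap.single R (fun _ => PolyNodeRing R (p * q)) i) _ ∈ W
      rw [map_sum]
      refine Submodule.sum_mem _ fun m _ => ?_
      rw [map_smul]
      refine W.smul_mem _ ?_
      show (Pi.single i (bas (p * q) m) : Fin (N + 1) → (PolyNodeRing R (p * q))) ∈ W
      simp only [bas]
      split_ifs with h
      · exact hx i _
      · obtain ⟨b, hb⟩ : ∃ b, (-m).toNat = b + 1 := ⟨(-m).toNat - 1, by omega⟩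
        rw [hb]; exact hy i b
    intro F
    rw [← Finset.univ_sum_single F]
    exact Submodule.sum_mem _ fun i _ => hs i (F i)
  refine Set.ext fun F => ⟨fun hF => ?_, fun hF => ?_⟩
  · obtain ⟨a, ha, b, ⟨t, rfl⟩, rfl⟩ := Submodule.mem_sup.1 (htop F)
    have h0 : Φ (a + L t) = 0 := (hΦ _).trans hF
    rw [map_add, hKer a ha, zero_add, hL] at h0
    rw [hψT t h0, map_zero, add_zero]
    exact ha
  · exact (hΦ F).symm.trans (hKer F hF)

end Groth.Agent.SpinNode
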